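import Mathlib

/-!
Fixed points of two commuting automorphisms of prime order on an abelian group.
-/

set_option autoImplicit false

namespace CfsgLib.ClassSizes3

open Finset

variable {V : Type*} [CommGroup V]

/-- The product over the powers of `γ` is fixed by `γ`. -/
theorem norm_fixed (γ : MulAut V) {r : ℕ} (hγ : γ ^ r = 1) (v : V) :
    γ (∏ i ∈ range r, (γ ^ i) v) = ∏ i ∈ range r, (γ ^ i) v := by
  have h1 : γ (∏ i ∈ range r, (γ ^ i) v) = ∏ i ∈ range r, (γ ^ (i + 1)) v := by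
    rw [map_prod]
    exact prod_congr rfl fun i _ => by rw [pow_succ', MulAut.mul_apply]
  have h2 := prod_range_succ' (fun i => (γ ^ i) v) r
  rw [prod_range_succ, hγ, pow_zero, MulAut.one_apply] at h2
  rw [h1]
  exact (mul_right_cancel h2).symm

/-- If every element of a group `C_r × C_r` of automorphisms, other than the trivial one, has all its
fixed points in `Z₀`, then all `r`-th powers lie in `Z₀`. -/
theorem pow_mem_of_fixed {r : ℕ} (hr : r.Prime) (α β : MulAut V) (hc : Commute α β) (hα : α ^ r = 1)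
    (hβ : β ^ r = 1) (Z₀ : Subgroup V) (hαZ : ∀ z ∈ Z₀, α z = z)
    (hfix : ∀ j : ℕ, ∀ v : V, (α * β ^ j) v = v → v ∈ Z₀) (hfixβ : ∀ v : V, β v = v → v ∈ Z₀)
    (v : V) : v ^ r ∈ Z₀ := by
  have hprod : ∏ j ∈ range r, ∏ i ∈ range r, ((α * β ^ j) ^ i) v ∈ Z₀ := by
    refine Subgroup.prod_mem _ fun j _ => hfix j _ (norm_fixed _ ?_ v)
    rw [(hc.pow_right j).mul_pow, hα, ← pow_mul, mul_comm j r, pow_mul, hβ, one_pow, one_mul]
  rw [prod_comm] at hprod
  obtain ⟨s, rfl⟩ : ∃ s, r = s + 1 := ⟨r - 1, by have := hr.pos; omega⟩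
  rw [prod_range_succ' (fun i => ∏ j ∈ range (s + 1), ((α * β ^ j) ^ i) v) s] at hprod
  simp only [pow_zero, MulAut.one_apply, prod_const, card_range] at hprod
  refine (Subgroup.mul_mem_cancel_left _ (Subgroup.prod_mem _ fun i hi => ?_)).mp hprod
  -- a nonzero power
  set k := i + 1 with hk
  have hk0 : 0 < k := Nat.succ_pos i
  have hks : k < s + 1 := by have := mem_range.mp hi; omega
  have hinj : Set.InjOn (fun j => k * j % (s + 1)) (range (s + 1) : Finset ℕ) := by
    intro a ha b hb hab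
    simp only [coe_range, Set.mem_Iio] at ha hb
    have hco : Nat.Coprime (s + 1) k :=
      (Nat.Prime.coprime_iff_not_dvd hr).mpr fun h => by have := Nat.le_of_dvd hk0 h; omega
    have := Nat.ModEq.cancel_left_of_coprime hco hab
    rwa [Nat.ModEq, Nat.mod_eq_of_lt ha, Nat.mod_eq_of_lt hb] at this
  have hperm : ∏ j ∈ range (s + 1), (β ^ (k * j)) v = ∏ j ∈ range (s + 1), (β ^ j) v := by
    refine prod_nbij (fun j => k * j % (s + 1)) ?_ hinj ?_ ?_
    · intro j _
      exact mem_range.mpr (Nat.mod_lt _ (Nat.succ_pos s))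
    · exact Finset.surjOn_of_injOn_of_card_le _
        (fun j _ => mem_coe.mpr (mem_range.mpr (Nat.mod_lt _ (Nat.succ_pos s)))) hinj le_rfl
    · intro j _
      rw [← pow_eq_pow_mod (k * j) hβ]
  have hterm : ∏ j ∈ range (s + 1), ((α * β ^ j) ^ k) v =
      (α ^ k) (∏ j ∈ range (s + 1), (β ^ j) v) := by
    rw [← hperm, map_prod]
    refine prod_congr rfl fun j _ => ?_
    rw [(hc.pow_right j).mul_pow, ← pow_mul, MulAut.mul_apply, mul_comm j k]
  rw [hterm]
  have hN : ∏ j ∈ range (s + 1), (β ^ j) v ∈ Z₀ := hfixβ _ (norm_fixed β hβ v)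
  have hfixk : ∀ t : ℕ, (α ^ t) (∏ j ∈ range (s + 1), (β ^ j) v) = ∏ j ∈ range (s + 1), (β ^ j) v := by
    intro t
    induction t with
    | zero => rfl
    | succ t ih => rw [pow_succ', MulAut.mul_apply, ih, hαZ _ hN]
  rw [hfixk]
  exact hN

end CfsgLib.ClassSizes3
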