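import Cfsg.Agent.Lib.ClassSizes3.Basic
import Cfsg.Agent.Lib.ClassSizes3.Fixed
import Cfsg.Agent.Lib.ClassGraph.Basic

/-!
Class sizes `{1, m, m * n}` with `m, n` coprime: levels of the Sylow subgroups of centralizers.
-/

set_option autoImplicit false

namespace CfsgLib.ClassSizes3

open Subgroup

variable {G : Type*} [Group G] [Finite G]

/-- The hypothesis: class sizes exactly `1, m, m * n` with `m, n > 1` coprime. -/
structure Sizes (G : Type*) [Group G] (m n : ℕ) : Prop where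
  one_lt_m : 1 < m
  one_lt_n : 1 < n
  cop : m.Coprime n
  vals : ∀ x : G, cl x = 1 ∨ cl x = m ∨ cl x = m * n
  exS : ∃ x : G, cl x = m
  exL : ∃ x : G, cl x = m * n

variable {m n : ℕ}

theorem Sizes.m_lt (hs : Sizes G m n) : m < m * n :=
  lt_mul_right (by have := hs.one_lt_m; omega) hs.one_lt_n

theorem Sizes.notCenter_S (hs : Sizes G m n) {x : G} (hx : cl x = m) : x ∉ center G := fun h => by
  have := hs.one_lt_m; rw [cl_eq_one.mpr h] at hx; omega

theorem Sizes.notCenter_L (hs : Sizes G m n) {x : G} (hx : cl x = m * n) : x ∉ center G := fun h => by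
  have := hs.m_lt; have := hs.one_lt_m; rw [cl_eq_one.mpr h] at hx; omega

theorem Sizes.cases (hs : Sizes G m n) {x : G} (hx : x ∉ center G) : cl x = m ∨ cl x = m * n :=
  (hs.vals x).resolve_left fun h => hx (cl_eq_one.mp h)

theorem Sizes.dvd_cl (hs : Sizes G m n) {x : G} (hx : x ∉ center G) : m ∣ cl x := by
  rcases hs.cases hx with h | h <;> rw [h]
  exact dvd_mul_right m n

theorem Sizes.cl_dvd (hs : Sizes G m n) (x : G) : cl x ∣ m * n := by
  rcases hs.vals x with h | h | h <;> rw [h]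
  · exact one_dvd _
  · exact dvd_mul_right m n

theorem Sizes.S_le (hs : Sizes G m n) {x y : G} (hx : cl x = m) (hy : y ∉ center G) (h : C x ≤ C y) :
    C x = C y := by
  refine eq_of_le_of_cl_eq h ?_
  rw [hx]
  exact Nat.dvd_antisymm (hx ▸ cl_dvd_of_le h) (hs.dvd_cl hy)

theorem Sizes.L_le (hs : Sizes G m n) {x y : G} (hy : cl y = m * n) (h : C x ≤ C y) : C x = C y := by
  refine eq_of_le_of_cl_eq h ?_
  exact Nat.dvd_antisymm (cl_dvd_of_le h) (hy ▸ hs.cl_dvd x)

/-- Commuting with an element of the largest class size, of prime power order. -/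
theorem Sizes.L_coprime (hs : Sizes G m n) {p q : ℕ} (hp : p.Prime) (hq : q.Prime) (hpq : p ≠ q)
    {w y : G} (hw : cl w = m * n) (hwp : PEl p w) (hyq : PEl q y) (hy : y ∈ C w) : C w ≤ C y := by
  have hc : Commute w y := (mem_C.mp hy).symm
  have hmul := C_mul hc (PEl.coprime hp hq hpq hwp hyq)
  have := hs.L_le (x := w * y) hw (hmul.le.trans inf_le_left)
  rw [← this, hmul]
  exact inf_le_right

/-- Commuting elements of coprime order both with the middle class size. -/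
theorem Sizes.S_S (hs : Sizes G m n) {p q : ℕ} (hp : p.Prime) (hq : q.Prime) (hpq : p ≠ q) {x y : G}
    (hx : cl x = m) (hy : cl y = m) (hxp : PEl p x) (hyq : PEl q y) (hc : y ∈ C x) :
    C x = C y ∨ (cl (x * y) = m * n ∧ C (x * y) = C x ⊓ C y) := by
  have hmul := C_mul (show Commute x y from (mem_C.mp hc).symm) (PEl.coprime hp hq hpq hxp hyq)
  have hnc : x * y ∉ center G := fun h => by
    have h1 := cl_dvd_of_le (hmul.le.trans inf_le_left)
    rw [cl_eq_one.mpr h, hx, Nat.dvd_one] at h1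
    have := hs.one_lt_m
    omega
  rcases hs.cases hnc with h | h
  · left
    have h1 := hs.S_le h (hs.notCenter_S hx) (hmul.le.trans inf_le_left)
    have h2 := hs.S_le h (hs.notCenter_S hy) (hmul.le.trans inf_le_right)
    rw [← h1, h2]
  · exact Or.inr ⟨h, hmul⟩

variable {p : ℕ} [hp : Fact p.Prime]

theorem fact_C (x : G) : (Nat.card (C x)).factorization p + (cl x).factorization p =
    (Nat.card G).factorization p := by
  rw [← card_C_mul_cl x, Nat.factorization_mul Nat.card_pos.ne'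
    (show cl x ≠ 0 from index_ne_zero_of_finite), Finsupp.add_apply]

theorem Sizes.fact_cl (hs : Sizes G m n) (hpn : ¬ p ∣ n) {x : G} (hx : x ∉ center G) :
    (cl x).factorization p = m.factorization p := by
  rcases hs.cases hx with h | h <;> rw [h]
  have := hs.one_lt_m
  have := hs.one_lt_n
  rw [Nat.factorization_mul (by omega) (by omega), Finsupp.add_apply,
    Nat.factorization_eq_zero_of_not_dvd hpn, add_zero]

omit hp in
theorem Sizes.not_dvd_n (hs : Sizes G m n) {r : ℕ} (hr : r.Prime) (hrm : r ∣ m) : ¬ r ∣ n := fun h =>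
  hr.one_lt.ne' (Nat.eq_one_of_dvd_coprimes hs.cop hrm h)

omit hp in
theorem Sizes.not_dvd_m (hs : Sizes G m n) {q : ℕ} (hq : q.Prime) (hqn : q ∣ n) : ¬ q ∣ m := fun h =>
  hq.one_lt.ne' (Nat.eq_one_of_dvd_coprimes hs.cop h hqn)

/-- If `p` divides the class size of `w` then some `p`-element is noncentral. -/
theorem exists_pel_of_dvd_cl {w : G} (h : p ∣ cl w) : ∃ x : G, PEl p x ∧ x ∉ C w := by
  obtain ⟨P, hP⟩ := exists_sylowIn (p := p) (⊤ : Subgroup G)
  by_contra hcon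
  push Not at hcon
  have hle : P ≤ C w := fun x hx => hcon x (PEl.of_mem hP.isPGroup hx)
  have h1 := card_le_of_isPGroup hP.isPGroup hle
  rw [hP.card, card_top] at h1
  have h2 := (Nat.pow_le_pow_iff_right hp.out.one_lt).mp h1
  have h3 := fact_C (p := p) w
  have h4 := hp.out.factorization_pos_of_dvd (show cl w ≠ 0 from index_ne_zero_of_finite) h
  omega

theorem Sizes.exists_pel_noncentral (hs : Sizes G m n) (hpd : p ∣ m * n) :
    ∃ x : G, PEl p x ∧ x ∉ center G := by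
  obtain ⟨w, hw⟩ := hs.exL
  obtain ⟨x, hx, hxC⟩ := exists_pel_of_dvd_cl (w := w) (p := p) (hw ▸ hpd)
  exact ⟨x, hx, fun h => hxC (center_le_C w h)⟩

/-- Two centralizers with equal Sylow orders both contain a noncentral `p`-element, or neither does. -/
theorem noncentral_transfer {x y u : G} (he : (Nat.card (C x)).factorization p = (Nat.card (C y)).factorization p)
    (hu : PEl p u) (huy : u ∈ C y) (huc : u ∉ center G) : ∃ v ∈ C x, PEl p v ∧ v ∉ center G := by
  by_contra hcon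
  push Not at hcon
  obtain ⟨D, hD⟩ := exists_sylowIn (p := p) (C x)
  obtain ⟨E, hE⟩ := exists_sylowIn (p := p) (C y)
  have hDc : D ≤ center G := fun v hv => hcon v (hD.le hv) (PEl.of_mem hD.isPGroup hv)
  have hDE : D ≤ E := fun v hv =>
    hE.center_mem (PEl.of_mem hD.isPGroup hv) (center_le_C y (hDc hv)) (hDc hv)
  have : D = E := eq_of_le_of_card_ge hDE (le_of_eq (by rw [hE.card, hD.card, he]))
  exact huc (hE.mem_center (this ▸ hDc) hu huy)

/-- Every centralizer contains a noncentral element of every prime dividing `m`. -/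
theorem Sizes.exists_r (hs : Sizes G m n) (hpm : p ∣ m) {x : G} (hx : x ∉ center G) :
    ∃ b ∈ C x, PEl p b ∧ b ∉ center G := by
  obtain ⟨v, hv, hvc⟩ := hs.exists_pel_noncentral (hpm.mul_right n)
  refine noncentral_transfer (y := v) ?_ hv (self_mem_C v) hvc
  have h1 := fact_C (p := p) x
  have h2 := fact_C (p := p) v
  rw [hs.fact_cl (hs.not_dvd_n hp.out hpm) hx] at h1
  rw [hs.fact_cl (hs.not_dvd_n hp.out hpm) hvc] at h2
  omega

/-- For a prime dividing `n`, the elements of class size `m` centralize a full Sylow subgroup. -/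
theorem Sizes.full_of_S (hs : Sizes G m n) (hpn : p ∣ n) {x : G} (hx : cl x = m) {D : Subgroup G}
    (hD : SylowIn p (C x) D) : SylowIn p ⊤ D :=
  hD.full (by rw [← cl, hx]; exact hs.not_dvd_m hp.out hpn)

/-- `II(p)`: every element commutes with a noncentral `p`-element. -/
def II (G : Type*) [Group G] (p : ℕ) : Prop :=
  ∀ x : G, x ∉ center G → ∃ u ∈ C x, PEl p u ∧ u ∉ center G

theorem Sizes.dichotomy (hs : Sizes G m n) (hpn : p ∣ n) :
    II G p ∨ ∀ w : G, cl w = m * n → ∀ u ∈ C w, PEl p u → u ∈ center G := by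
  by_cases hall : ∀ w : G, cl w = m * n → ∀ u ∈ C w, PEl p u → u ∈ center G
  · exact Or.inr hall
  left
  push Not at hall
  obtain ⟨w, hw, u, hu, hup, huc⟩ := hall
  intro x hx
  rcases hs.cases hx with h | h
  · obtain ⟨D, hD⟩ := exists_sylowIn (p := p) (C x)
    obtain ⟨v, hv, hvc⟩ := hs.exists_pel_noncentral (hpn.mul_left m)
    obtain ⟨y, hy, hyp, hyc⟩ := (hs.full_of_S hpn h hD).exists_noncentral hv (mem_top v) hvc
    exact ⟨y, hD.le hy, hyp, hyc⟩
  · refine noncentral_transfer (y := w) ?_ hup hu huc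
    have h1 := fact_C (p := p) x
    have h2 := fact_C (p := p) w
    rw [h] at h1
    rw [hw] at h2
    omega

/-- An element of the second centre of a Sylow subgroup. -/
theorem Sizes.exists_second (hs : Sizes G m n) (hpm : p ∣ m) {R : Subgroup G} (hR : SylowIn p ⊤ R) :
    ∃ y ∈ R, y ∉ center G ∧ (∀ g ∈ R, g * y * g⁻¹ * y⁻¹ ∈ center G) ∧ y ^ p ∈ center G := by
  obtain ⟨v, hv, hvc⟩ := hs.exists_pel_noncentral (hpm.mul_right n)
  obtain ⟨v', hv', -, hv'c⟩ := hR.exists_noncentral hv (mem_top v) hvc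
  set Z : Subgroup R := (center G).subgroupOf R
  have hQ : IsPGroup p (R ⧸ Z) := hR.isPGroup.to_quotient Z
  have : Nontrivial (R ⧸ Z) := ⟨⟨((⟨v', hv'⟩ : R) : R ⧸ Z), 1, fun h => hv'c ((QuotientGroup.eq_one_iff (⟨v', hv'⟩ : R)).mp h)⟩⟩
  have := hQ.center_nontrivial
  obtain ⟨k, hk, hkc⟩ := (hQ.to_subgroup (center (R ⧸ Z))).nontrivial_iff_card.mp inferInstance
  obtain ⟨⟨z, hz⟩, hzo⟩ := exists_prime_orderOf_dvd_card' (G := center (R ⧸ Z)) p (hkc ▸ dvd_pow_self p hk.ne')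
  obtain ⟨⟨y, hy⟩, rfl⟩ := QuotientGroup.mk_surjective z
  rw [Subgroup.orderOf_mk] at hzo
  refine ⟨y, hy, fun h => ?_, fun g hg => ?_, ?_⟩
  · rw [(QuotientGroup.eq_one_iff _).mpr (show (⟨y, hy⟩ : R) ∈ Z from h), orderOf_one] at hzo
    exact hp.out.one_lt.ne hzo
  · have h1 := mem_center_iff.mp hz ((⟨g, hg⟩ : R) : R ⧸ Z)
    have h2 : (((⟨g, hg⟩ : R) * ⟨y, hy⟩ * ⟨g, hg⟩⁻¹ * ⟨y, hy⟩⁻¹ : R) : R ⧸ Z) = 1 := by
      rw [QuotientGroup.mk_mul, QuotientGroup.mk_mul, QuotientGroup.mk_mul, QuotientGroup.mk_inv,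
        QuotientGroup.mk_inv, h1, mul_inv_cancel_right, mul_inv_cancel]
    exact (QuotientGroup.eq_one_iff (⟨g, hg⟩ * ⟨y, hy⟩ * ⟨g, hg⟩⁻¹ * ⟨y, hy⟩⁻¹ : R)).mp h2
  · have h3 : (((⟨y, hy⟩ : R) ^ p : R) : R ⧸ Z) = 1 := by
      rw [QuotientGroup.mk_pow, ← hzo, pow_orderOf_eq_one]
    exact (QuotientGroup.eq_one_iff ((⟨y, hy⟩ : R) ^ p)).mp h3

omit [Finite G] hp in
theorem mem_normalizer_C_of_shift {R : Subgroup G} {y : G}
    (h : ∀ g ∈ R, g * y * g⁻¹ * y⁻¹ ∈ center G) : R ≤ normalizer (C y : Set G) := by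
  have key : ∀ g ∈ R, ∀ k ∈ C y, g * k * g⁻¹ ∈ C y := fun g hg k hk => by
    have h1 := conj_mem_conj (g := g) hk
    have h2 : g * y * g⁻¹ = y * (g * y * g⁻¹ * y⁻¹) := by
      rw [mem_center_iff.mp (h g hg) y, inv_mul_cancel_right]
    rw [h2, C_mul_eq_of_central (h g hg)] at h1
    exact h1
  intro g hg
  refine mem_normalizer_iff.mpr fun k => ⟨key g hg k, fun hk => ?_⟩
  have := key g⁻¹ (inv_mem hg) _ hk
  simpa [mul_assoc] using this

/-! ### Semiregular action -/

open scoped IsMulCommutative in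
/-- A `p`-group `P` acting on an abelian `p'`-group `V ⊄ Z(G)`, such that only elements of `P₀` fix
noncentral elements of `V`, where `P / P₀` has exponent `p` and commutators act trivially: `P / P₀`
is cyclic. -/
theorem exists_mul_pow_mem {P P₀ V : Subgroup G} [hVc : IsMulCommutative V]
    (hPV : P ≤ normalizer (V : Set G)) (hVp : ¬ p ∣ Nat.card V) (hV : ¬ V ≤ center G)
    (hfix : ∀ g ∈ P, g ∉ P₀ → ∀ v ∈ V, g ∈ C v → v ∈ center G)
    (htriv : ∀ g ∈ P₀, ∀ v ∈ V, g ∈ C v) (hexp : ∀ g ∈ P, g ^ p ∈ P₀)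
    (hcomm : ∀ a ∈ P, ∀ b ∈ P, a * b * a⁻¹ * b⁻¹ ∈ P₀) {a b : G} (ha : a ∈ P) (hb : b ∈ P)
    (hb0 : b ∉ P₀) : ∃ j : ℕ, a * b ^ j ∈ P₀ := by
  by_contra hcon
  push Not at hcon
  let φ : normalizer (V : Set G) →* MulAut V := V.normalizerMonoidHom
  have hval : ∀ (g : normalizer (V : Set G)) (v : V), ((φ g v : V) : G) = g * v * (g : G)⁻¹ :=
    fun _ _ => rfl
  have htriv' : ∀ g : normalizer (V : Set G), (g : G) ∈ P₀ → φ g = 1 := fun g hg => by
    ext v
    rw [hval, MulAut.one_apply, mul_inv_eq_iff_eq_mul]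
    exact mem_C.mp (htriv g hg v v.2)
  let a' : normalizer (V : Set G) := ⟨a, hPV ha⟩
  let b' : normalizer (V : Set G) := ⟨b, hPV hb⟩
  have hc : Commute (φ a') (φ b') := by
    have h := htriv' (a' * b' * a'⁻¹ * b'⁻¹) (hcomm a ha b hb)
    rw [map_mul, map_mul, map_mul, map_inv, map_inv] at h
    exact mul_inv_eq_iff_eq_mul.mp (mul_inv_eq_one.mp h)
  have hpa : φ a' ^ p = 1 := by rw [← map_pow]; exact htriv' _ (hexp a ha)
  have hpb : φ b' ^ p = 1 := by rw [← map_pow]; exact htriv' _ (hexp b hb)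
  have key := pow_mem_of_fixed hp.out (φ a') (φ b') hc hpa hpb ((center G).subgroupOf V)
    (fun z hz => Subtype.ext (by
      rw [hval, mem_center_iff.mp (show (z : G) ∈ center G from hz) (a' : G), mul_inv_cancel_right]))
    (fun j v hv => by
      rw [← map_pow, ← map_mul] at hv
      refine hfix (a * b ^ j) (mul_mem ha (pow_mem hb j)) (hcon j) v v.2 (mem_C.mpr ?_)
      have := congrArg (fun u : V => (u : G)) hv
      rw [hval] at this
      exact mul_inv_eq_iff_eq_mul.mp this)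
    (fun v hv => by
      refine hfix b hb hb0 v v.2 (mem_C.mpr ?_)
      have := congrArg (fun u : V => (u : G)) hv
      rw [hval] at this
      exact mul_inv_eq_iff_eq_mul.mp this)
  refine hV fun v hv => ?_
  have hco : p.Coprime (orderOf (⟨v, hv⟩ : V)) :=
    ((hp.out.coprime_iff_not_dvd).mpr hVp).coprime_dvd_right (orderOf_dvd_natCard _)
  obtain ⟨k, hk⟩ := exists_pow_eq_self_of_coprime hco
  have := pow_mem (key ⟨v, hv⟩) k
  rw [hk] at this
  exact this

/-- Under the hypotheses of `exists_mul_pow_mem`, `P₀` has index `p` or `1` in `P`. -/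
theorem relIndex_dvd_of_semiregular {P P₀ V : Subgroup G} [IsMulCommutative V] (hle : P₀ ≤ P)
    (hPV : P ≤ normalizer (V : Set G)) (hVp : ¬ p ∣ Nat.card V) (hV : ¬ V ≤ center G)
    (hfix : ∀ g ∈ P, g ∉ P₀ → ∀ v ∈ V, g ∈ C v → v ∈ center G)
    (htriv : ∀ g ∈ P₀, ∀ v ∈ V, g ∈ C v) (hexp : ∀ g ∈ P, g ^ p ∈ P₀)
    (hcomm : ∀ a ∈ P, ∀ b ∈ P, a * b * a⁻¹ * b⁻¹ ∈ P₀) : P₀.relIndex P ∣ p := by
  haveI hn : (P₀.subgroupOf P).Normal := ⟨fun x hx g => by
    rw [mem_subgroupOf] at hx ⊢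
    have := mul_mem (hcomm g g.2 x (hle hx)) hx
    rwa [inv_mul_cancel_right] at this⟩
  by_cases hall : ∀ b ∈ P, b ∈ P₀
  · rw [relIndex_eq_one.mpr hall]; exact one_dvd p
  push Not at hall
  obtain ⟨b, hb, hb0⟩ := hall
  show (P₀.subgroupOf P).index ∣ p
  rw [index_eq_card]
  have htop : ∀ q : P ⧸ P₀.subgroupOf P, q ∈ zpowers ((⟨b, hb⟩ : P) : P ⧸ P₀.subgroupOf P) := by
    intro q
    obtain ⟨⟨a, ha⟩, rfl⟩ := QuotientGroup.mk_surjective q
    obtain ⟨j, hj⟩ := exists_mul_pow_mem hPV hVp hV hfix htriv hexp hcomm ha hb hb0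
    have h1 : ((⟨a, ha⟩ * ⟨b, hb⟩ ^ j : P) : P ⧸ P₀.subgroupOf P) = 1 :=
      (QuotientGroup.eq_one_iff _).mpr hj
    rw [QuotientGroup.mk_mul, mul_eq_one_iff_eq_inv] at h1
    rw [h1, QuotientGroup.mk_pow]
    exact inv_mem (pow_mem (mem_zpowers _) j)
  rw [← orderOf_eq_card_of_forall_mem_zpowers htop]
  exact orderOf_dvd_of_pow_eq_one ((QuotientGroup.mk_pow _ _ _).symm.trans
    ((QuotientGroup.eq_one_iff _).mpr (hexp b hb)))

end CfsgLib.ClassSizes3
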